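import Mathlib
import Cfsg.Agent.Classical.SL
import Cfsg.Agent.Classical.Misc.PSLFourTwo

/-!
Linear groups over the field with two elements: the general linear group as a projective special linear group, and no simple subgroup of order 1344 in dimension four.
-/

set_option autoImplicit false
set_option linter.unusedSectionVars false
set_option linter.style.haveILetI false

namespace Cfsg.Lib.SolvStruct.AltEight

open Matrix Subgroup

/-- over the field with two elements the general linear group is the projective special linear group -/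
theorem gl_equiv_psl (n : ℕ) [NeZero n] :
    Nonempty (GL (Fin n) (ZMod 2) ≃* ProjectiveSpecialLinearGroup (Fin n) (ZMod 2)) := by
  haveI : Fact (Nat.Prime 2) := ⟨Nat.prime_two⟩
  have hbot : Subgroup.center (SpecialLinearGroup (Fin n) (ZMod 2)) = ⊥ := by
    rw [← Subgroup.card_eq_one, Cfsg.Lib.Classical.card_center_SL, Nat.card_zmod]
    simp
  have hπ : Function.Bijective (QuotientGroup.mk' (Subgroup.center (SpecialLinearGroup (Fin n) (ZMod 2)))) :=
    ⟨by rw [← MonoidHom.ker_eq_bot_iff, QuotientGroup.ker_mk', hbot], QuotientGroup.mk'_surjective _⟩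
  have hone : ∀ x : ZMod 2, x ≠ 0 → x = 1 := (by decide : ∀ x : Fin 2, x ≠ 0 → x = 1)
  have hι : Function.Bijective (SpecialLinearGroup.toGL : SpecialLinearGroup (Fin n) (ZMod 2) → GL (Fin n) (ZMod 2)) := by
    refine ⟨SpecialLinearGroup.toGL_injective, fun g => ⟨⟨(g : Matrix (Fin n) (Fin n) (ZMod 2)), ?_⟩, Units.ext rfl⟩⟩
    exact hone _ ((Matrix.isUnit_iff_isUnit_det _).1 g.isUnit).ne_zero
  exact ⟨(MulEquiv.ofBijective _ hι).symm.trans (MulEquiv.ofBijective _ hπ)⟩

/-- no simple subgroup of order 1344 in dimension four over two elements -/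
theorem no_simple_1344 (H : Subgroup (GL (Fin 4) (ZMod 2))) (hcard : Nat.card H = 1344) : ¬ IsSimpleGroup H := by
  classical
  intro hs
  haveI := hs
  haveI : Fact (Nat.Prime 2) := ⟨Nat.prime_two⟩
  letI : MulAction H (Fin 4 → ZMod 2) :=
    { smul := fun g v => ((g : GL (Fin 4) (ZMod 2)) : Matrix (Fin 4) (Fin 4) (ZMod 2)) *ᵥ v
      one_smul := fun v => by
        show ((1 : GL (Fin 4) (ZMod 2)) : Matrix (Fin 4) (Fin 4) (ZMod 2)) *ᵥ v = v
        simp
      mul_smul := fun g h v => by
        show (((g : GL (Fin 4) (ZMod 2)) * (h : GL (Fin 4) (ZMod 2)) : GL (Fin 4) (ZMod 2)) : Matrix (Fin 4) (Fin 4) (ZMod 2)) *ᵥ v = _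
        rw [Units.val_mul, ← Matrix.mulVec_mulVec]
        rfl }
  have hsmul : ∀ (g : H) v, g • v = ((g : GL (Fin 4) (ZMod 2)) : Matrix (Fin 4) (Fin 4) (ZMod 2)) *ᵥ v := fun _ _ => rfl
  have hsm0 : ∀ g : H, g • (0 : Fin 4 → ZMod 2) = 0 := fun g => by rw [hsmul, Matrix.mulVec_zero]
  have hadd : ∀ (g : H) v w, g • (v + w : Fin 4 → ZMod 2) = g • v + g • w := fun g v w => by
    simp only [hsmul, Matrix.mulVec_add]
  have hfaith : ∀ g : H, (∀ v : Fin 4 → ZMod 2, g • v = v) → g = 1 := fun g hg => by
    refine Subtype.ext (Units.ext (Matrix.ext fun i j => ?_))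
    have h := congrFun (hg (Pi.single j 1)) i
    rw [hsmul, Matrix.mulVec_single_one] at h
    simp only [Matrix.col_apply] at h
    rw [h]
    simp [Matrix.one_apply, Pi.single_apply]
  obtain ⟨S⟩ : Nonempty (Sylow 2 H) := inferInstance
  obtain ⟨e, he, he0⟩ := S.isPGroup'.exists_fixed_point_of_prime_dvd_card_of_fixed_point (Fin 4 → ZMod 2)
    (by rw [Nat.card_fun, Nat.card_zmod, Nat.card_fin]; norm_num) (a := 0)
    (MulAction.mem_fixedPoints.2 fun g => hsm0 g)
  set C := MulAction.stabilizer H e
  have hSC : (S : Subgroup H) ≤ C := fun g hg => MulAction.mem_fixedPoints.1 he ⟨g, hg⟩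
  have hidx : C.index ∣ 21 := by
    refine (Subgroup.index_dvd_of_le hSC).trans ?_
    have hS64 : Nat.card S = 64 := by
      rw [Sylow.card_eq_multiplicity, hcard, show (1344 : ℕ) = 2 ^ 6 * 21 by norm_num,
        Nat.factorization_mul (by norm_num) (by norm_num), Finsupp.add_apply, Nat.prime_two.factorization_pow,
        Nat.factorization_eq_zero_of_not_dvd (by norm_num : ¬ 2 ∣ 21)]
      simp
    have h := (S : Subgroup H).card_mul_index
    rw [hcard, show Nat.card (S : Subgroup H) = 64 from hS64] at h
    exact ⟨1, by omega⟩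
  have hsmall : C.index ≤ 15 := by
    rw [MulAction.index_stabilizer]
    refine (Set.ncard_le_ncard (t := ({0}ᶜ : Set (Fin 4 → ZMod 2))) ?_).trans ?_
    · rintro _ ⟨g, rfl⟩ (h : g • e = 0)
      apply he0
      rw [← inv_smul_smul g e, h, hsm0]
    · rw [Set.ncard_compl, Set.ncard_singleton, Nat.card_fun, Nat.card_zmod, Nat.card_fin]
      norm_num
  -- a small orbit is a fixed point
  have hinj : ∀ {β : Type} [Finite β] (ρ : H →* Equiv.Perm β) (g : H), ρ g ≠ 1 → 1344 ∣ (Nat.card β).factorial := by
    intro β _ ρ g hg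
    have hk : ρ.ker = ⊥ := (hs.eq_bot_or_eq_top_of_normal _ inferInstance).resolve_right fun h =>
      hg (MonoidHom.mem_ker.1 (h ▸ Subgroup.mem_top g))
    have h := Subgroup.card_dvd_of_injective ρ ((MonoidHom.ker_eq_bot_iff ρ).1 hk)
    rwa [hcard, Nat.card_perm] at h
  have hfix : ∀ g : H, g • e = e := by
    by_contra hall
    push Not at hall
    obtain ⟨g, hg⟩ := hall
    have h := hinj (MulAction.toPermHom H (MulAction.orbit H e)) g (fun h1 => hg (by
      have := congrFun (congrArg DFunLike.coe h1) ⟨e, MulAction.mem_orbit_self e⟩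
      exact congrArg Subtype.val this))
    rw [Nat.card_coe_set_eq, ← MulAction.index_stabilizer] at h
    have hle : C.index ≤ 7 := by
      by_contra h7
      have h2 := Nat.le_of_dvd (by norm_num) hidx
      interval_cases hi : C.index <;> norm_num at hidx
    have := h.trans (Nat.factorial_dvd_factorial hle)
    norm_num [Nat.factorial] at this
  -- the action modulo the fixed vector
  have h2 : e + e = 0 := funext fun i => CharTwo.add_self_eq_zero (e i)
  let W := (Fin 4 → ZMod 2) ⧸ AddSubgroup.zmultiples e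
  have hmem : ∀ (g : H) (v : Fin 4 → ZMod 2), v ∈ AddSubgroup.zmultiples e → g • v ∈ AddSubgroup.zmultiples e := by
    rintro g _ ⟨k, rfl⟩
    refine ⟨k, ?_⟩
    show k • e = g • (k • e)
    rw [hsmul, Matrix.mulVec_smul, ← hsmul, hfix]
  let f : H → W →+ W := fun g => QuotientAddGroup.map _ _ (AddMonoidHom.mk' (fun v => g • v) (hadd g)) fun v hv => hmem g v hv
  have hf : ∀ (g : H) v, f g (QuotientAddGroup.mk v) = QuotientAddGroup.mk (g • v) := fun g v => rfl
  have hf1 : ∀ w, f 1 w = w := fun w => by
    obtain ⟨v, rfl⟩ := QuotientAddGroup.mk_surjective w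
    rw [hf, one_smul]
  have hfm : ∀ g h w, f (g * h) w = f g (f h w) := fun g h w => by
    obtain ⟨v, rfl⟩ := QuotientAddGroup.mk_surjective w
    rw [hf, hf, hf, mul_smul]
  letI : MulAction H {w : W // w ≠ 0} :=
    { smul := fun g w => ⟨f g w, fun h => w.2 (by
        rw [← hf1 w, ← inv_mul_cancel g, hfm, h, map_zero])⟩
      one_smul := fun w => Subtype.ext (hf1 w)
      mul_smul := fun g h w => Subtype.ext (hfm g h w) }
  haveI : Finite W := Finite.of_surjective _ (QuotientAddGroup.mk'_surjective (AddSubgroup.zmultiples e))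
  obtain ⟨g, hg⟩ : ∃ g : H, MulAction.toPermHom H {w : W // w ≠ 0} g ≠ 1 := by
    by_contra hall
    push Not at hall
    haveI : Fact (Nat.Prime 7) := ⟨by norm_num⟩
    obtain ⟨u, hu⟩ := exists_prime_orderOf_dvd_card' (G := H) 7 (by rw [hcard]; norm_num)
    have hsq : ∀ v : Fin 4 → ZMod 2, u • (u • v) = v := by
      intro v
      have hcase : u • v = v ∨ u • v = v + e := by
        by_cases h0 : (QuotientAddGroup.mk v : W) = 0
        · obtain ⟨k, rfl⟩ := (QuotientAddGroup.eq_zero_iff v).1 h0
          left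
          show u • (k • e) = k • e
          rw [hsmul, Matrix.mulVec_smul, ← hsmul, hfix]
        · have h' := Equiv.ext_iff.1 (hall u) ⟨(QuotientAddGroup.mk v : W), h0⟩
          have h := congrArg Subtype.val h'
          change f u (QuotientAddGroup.mk v) = QuotientAddGroup.mk v at h
          rw [hf, QuotientAddGroup.eq] at h
          obtain ⟨k, hk⟩ := h
          change k • e = -(u • v) + v at hk
          rcases Int.even_or_odd' k with ⟨l, rfl | rfl⟩
          · left
            rw [mul_comm, mul_smul, two_smul, h2, smul_zero] at hk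
            rw [eq_comm, add_eq_zero_iff_eq_neg, neg_inj] at hk
            exact hk
          · right
            rw [add_smul, mul_comm, mul_smul, two_smul, h2, smul_zero, zero_add, one_smul] at hk
            rw [hk, add_left_comm, ← two_smul ℕ v]
            funext i
            simp [two_mul, CharTwo.add_self_eq_zero]
      rcases hcase with h | h
      · rw [h, h]
      · rw [h, hadd, h, hfix, add_assoc, h2, add_zero]
    have h1 : u ^ 2 = 1 := hfaith _ fun v => by rw [sq, mul_smul]; exact hsq v
    have h27 := orderOf_dvd_of_pow_eq_one h1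
    rw [hu] at h27
    norm_num at h27
  have h := hinj _ g hg
  have hW : Nat.card W = 8 := by
    have hc := (AddSubgroup.zmultiples e).card_mul_index
    have ho : addOrderOf e = 2 := addOrderOf_eq_prime (by rw [two_nsmul, h2]) he0.symm
    rw [Nat.card_zmultiples, ho, Nat.card_fun, Nat.card_zmod, Nat.card_fin, AddSubgroup.index_eq_card] at hc
    change 2 * Nat.card W = 2 ^ 4 at hc
    omega
  haveI := Fintype.ofFinite W
  rw [Nat.card_eq_fintype_card, Fintype.card_subtype_compl, Fintype.card_subtype_eq, ← Nat.card_eq_fintype_card, hW] at h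
  norm_num [Nat.factorial] at h

end Cfsg.Lib.SolvStruct.AltEight
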