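import Mathlib
import Cfsg.Agent.Presentations.BinaryIcosahedral

/-!
Non-solvable permutation groups of degree six and groups of order sixty and one hundred twenty on five points.
-/

set_option autoImplicit false
set_option linter.unusedSectionVars false
set_option linter.style.haveILetI false

namespace Cfsg.Lib.SolvStruct.AltEight

open Equiv Subgroup

/-- a non-solvable group has at least sixty elements -/
theorem sixty_le {G : Type*} [Group G] [Finite G] (h : ¬ Group.IsSolvable G) : 60 ≤ Nat.card G := by
  by_contra hlt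
  exact h (Cfsg.Lib.Presentations.isSolvable_of_card_lt_sixty _ G rfl (Nat.lt_of_not_le hlt))

/-- the restriction of a permutation representation to an invariant set -/
def restrict {G : Type*} [Group G] {α : Type*} (φ : G →* Perm α) (P : α → Prop) (h : ∀ g x, P (φ g x) ↔ P x) :
    G →* Perm {x // P x} where
  toFun g := (φ g).subtypePerm (h g)
  map_one' := Equiv.ext fun x => Subtype.ext (by simp)
  map_mul' g g' := Equiv.ext fun x => Subtype.ext (by simp; rfl)

theorem restrict_apply {G : Type*} [Group G] {α : Type*} (φ : G →* Perm α) (P : α → Prop) (h : ∀ g x, P (φ g x) ↔ P x)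
    (g : G) (x : {x // P x}) : ((restrict φ P h g x : {x // P x}) : α) = φ g x := rfl

theorem mem_ker_restrict {G : Type*} [Group G] {α : Type*} {φ : G →* Perm α} {P : α → Prop}
    {h : ∀ g x, P (φ g x) ↔ P x} {g : G} : g ∈ (restrict φ P h).ker ↔ ∀ x, P x → φ g x = x := by
  rw [MonoidHom.mem_ker]
  constructor
  · intro e x hx
    exact (restrict_apply φ P h g ⟨x, hx⟩).symm.trans (by rw [e]; rfl)
  · intro e
    exact Equiv.ext fun x => Subtype.ext (e x x.2)

/-- orders 60 and 120 on five points -/
theorem five {G : Type*} [Group G] [Finite G] {β : Type*} [Fintype β] (hβ : Fintype.card β = 5) (φ : G →* Perm β)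
    (hφ : Function.Injective φ) :
    (Nat.card G = 120 → Nonempty (G ≃* Perm (Fin 5))) ∧ (Nat.card G = 60 → Nonempty (G ≃* alternatingGroup (Fin 5))) := by
  classical
  let ψ : G →* Perm (Fin 5) := (Fintype.equivFinOfCardEq hβ).permCongrHom.toMonoidHom.comp φ
  have hψ : Function.Injective ψ := (Fintype.equivFinOfCardEq hβ).permCongrHom.injective.comp hφ
  have hcard : Nat.card (Perm (Fin 5)) = 120 := by rw [Nat.card_perm, Nat.card_fin]; rfl
  have e1 : G ≃* ψ.range := MonoidHom.ofInjective hψ
  constructor
  · intro h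
    have hbij : Function.Bijective ψ := (Nat.bijective_iff_injective_and_card ψ).2 ⟨hψ, by rw [h, hcard]⟩
    exact ⟨MulEquiv.ofBijective ψ hbij⟩
  · intro h
    have hi : ψ.range.index = 2 := by
      have h2 := ψ.range.card_mul_index
      rw [← Nat.card_congr e1.toEquiv, h, hcard] at h2
      omega
    exact ⟨e1.trans (MulEquiv.subgroupCongr (Equiv.Perm.eq_alternatingGroup_of_index_eq_two hi))⟩

/-- **non-solvable groups of permutations of six points** -/
theorem six {G : Type*} [Group G] [Finite G] (hns : ¬ Group.IsSolvable G) (φ : G →* Perm (Fin 6))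
    (hφ : Function.Injective φ) :
    Nonempty (G ≃* alternatingGroup (Fin 5)) ∨ Nonempty (G ≃* alternatingGroup (Fin 6)) ∨
      Nonempty (G ≃* Perm (Fin 5)) ∨ Nonempty (G ≃* Perm (Fin 6)) := by
  classical
  haveI hsimp : IsSimpleGroup (alternatingGroup (Fin 6)) := alternatingGroup.isSimpleGroup (by simp)
  have hS : Nat.card (Perm (Fin 6)) = 720 := by rw [Nat.card_perm, Nat.card_fin]; rfl
  have hAi : (alternatingGroup (Fin 6)).index = 2 := alternatingGroup.index_eq_two
  have hA : Nat.card (alternatingGroup (Fin 6)) = 360 := by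
    have := (alternatingGroup (Fin 6)).card_mul_index
    rw [hAi, hS] at this
    omega
  have hRc : Nat.card φ.range = Nat.card G := (Nat.card_congr (MonoidHom.ofInjective hφ).toEquiv).symm
  let G₀ : Subgroup G := (Equiv.Perm.sign.comp φ).ker
  let ψ : G₀ →* alternatingGroup (Fin 6) := (φ.comp G₀.subtype).codRestrict _ fun g => Equiv.Perm.mem_alternatingGroup.2 g.2
  have hψ : Function.Injective ψ := fun a b e => Subtype.ext (hφ (congrArg Subtype.val e))
  have h2G : G₀.index ∣ 2 := by
    show (Equiv.Perm.sign.comp φ).ker.index ∣ 2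
    rw [Subgroup.index_ker]
    exact (Subgroup.card_subgroup_dvd_card _).trans (by rw [Nat.card_eq_fintype_card, Fintype.card_units_int])
  have hns₀ : ¬ Group.IsSolvable G₀ := by
    intro h
    haveI : Group.IsSolvable ℤˣ := Group.isSolvable_of_comm mul_comm
    exact hns (Group.isSolvable_of_ker_le_range G₀.subtype (Equiv.Perm.sign.comp φ) (by rw [range_subtype]))
  have h60 := sixty_le hns₀
  set B := ψ.range with hB
  have hBc : Nat.card B = Nat.card G₀ := (Nat.card_congr (MonoidHom.ofInjective hψ).toEquiv).symm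
  have hG0 : Nat.card G₀ * G₀.index = Nat.card G := G₀.card_mul_index
  by_cases htop : B = ⊤
  · have h360 : Nat.card G₀ = 360 := by rw [← hBc, htop, Subgroup.card_top, hA]
    rcases (Nat.dvd_prime Nat.prime_two).1 h2G with hi | hi
    · right; left
      have hR : φ.range.index = 2 := by
        have h := φ.range.card_mul_index
        rw [hRc, ← hG0, h360, hi, hS] at h
        omega
      exact ⟨(MonoidHom.ofInjective hφ).trans (MulEquiv.subgroupCongr (Equiv.Perm.eq_alternatingGroup_of_index_eq_two hR))⟩
    · right; right; right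
      exact ⟨MulEquiv.ofBijective φ ((Nat.bijective_iff_injective_and_card φ).2
        ⟨hφ, by rw [← hG0, h360, hi, hS]⟩)⟩
  -- a subgroup of index six
  have hcoreA : B.normalCore = ⊥ := (Subgroup.normalCore_normal B).eq_bot_or_eq_top.resolve_right fun h =>
    htop (top_le_iff.1 (h ▸ B.normalCore_le))
  let θ := MulAction.toPermHom (alternatingGroup (Fin 6)) (alternatingGroup (Fin 6) ⧸ B)
  have hθ : Function.Injective θ := (MonoidHom.ker_eq_bot_iff _).1 (B.normalCore_eq_ker ▸ hcoreA)
  have hidx : B.index = 6 ∧ Nat.card G₀ = 60 := by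
    have hle := Nat.card_le_card_of_injective _ hθ
    rw [Nat.card_perm, hA, ← Subgroup.index_eq_card] at hle
    have h6 : 6 ≤ B.index := by
      by_contra h
      exact absurd (hle.trans (Nat.factorial_le (show B.index ≤ 5 by omega))) (by decide)
    have h := B.card_mul_index
    rw [hA, hBc] at h
    constructor
    · nlinarith
    · nlinarith
  haveI : Fintype (alternatingGroup (Fin 6) ⧸ B) := Fintype.ofFinite _
  have hQ : Fintype.card (alternatingGroup (Fin 6) ⧸ B) = 6 := by
    rw [← Nat.card_eq_fintype_card, ← Subgroup.index_eq_card, hidx.1]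
  rcases (Nat.dvd_prime Nat.prime_two).1 h2G with hi | hi
  · left
    set q₀ : alternatingGroup (Fin 6) ⧸ B := ((1 : alternatingGroup (Fin 6)) : alternatingGroup (Fin 6) ⧸ B)
    have hfix : ∀ g : G₀, θ (ψ g) q₀ = q₀ := fun g => by
      show ψ g • q₀ = q₀
      rw [MulAction.Quotient.smul_coe, QuotientGroup.eq]
      simp only [smul_eq_mul, mul_one]
      exact B.inv_mem ⟨g, rfl⟩
    have hP : ∀ g x, (θ.comp ψ g x ≠ q₀) ↔ x ≠ q₀ := fun g x =>
      not_congr ⟨fun e => (θ (ψ g)).injective (e.trans (hfix g).symm), fun e => e ▸ hfix g⟩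
    let ρ := restrict (θ.comp ψ) (fun x => x ≠ q₀) hP
    have hρ : Function.Injective ρ := by
      rw [← MonoidHom.ker_eq_bot_iff, eq_bot_iff]
      intro g hg
      refine Subgroup.mem_bot.2 (hψ (hθ ?_))
      rw [map_one, map_one]
      refine Equiv.ext fun x => ?_
      by_cases hx : x = q₀
      · subst hx; exact hfix g
      · exact mem_ker_restrict.1 hg x hx
    obtain ⟨e⟩ := (five (β := {x : alternatingGroup (Fin 6) ⧸ B // x ≠ q₀})
      (by rw [Fintype.card_subtype_compl, Fintype.card_subtype_eq, hQ]) ρ hρ).2 hidx.2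
    have hG0top : G₀ = ⊤ := Subgroup.index_eq_one.1 hi
    exact ⟨(Subgroup.topEquiv.symm.trans (MulEquiv.subgroupCongr hG0top.symm)).trans e⟩
  · right; right; left
    set R := φ.range with hR
    have hGc : Nat.card G = 120 := by rw [← hG0, hidx.2, hi]
    have hRi : R.index = 6 := by
      have h := R.card_mul_index
      rw [hRc, hGc, hS] at h
      omega
    have hker : R.normalCore = ⊥ := by
      set K := R.normalCore with hK
      have h1 : K.subgroupOf (alternatingGroup (Fin 6)) = ⊥ := by
        refine (inferInstance : (K.subgroupOf (alternatingGroup (Fin 6))).Normal).eq_bot_or_eq_top.resolve_right fun h => ?_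
        apply htop
        rw [eq_top_iff]
        intro a _
        obtain ⟨g, hg⟩ := R.normalCore_le (Subgroup.mem_subgroupOf.1 (h ▸ Subgroup.mem_top a : a ∈ K.subgroupOf _))
        exact ⟨⟨g, show Equiv.Perm.sign (φ g) = 1 by rw [hg]; exact a.2⟩, Subtype.ext hg⟩
      rw [eq_bot_iff]
      intro k hk
      refine Subgroup.mem_bot.2 ?_
      have hcomm : ∀ σ : Perm (Fin 6), σ * k = k * σ := fun σ => by
        have hm : σ * k * σ⁻¹ * k⁻¹ ∈ K :=
          K.mul_mem ((Subgroup.normalCore_normal R).conj_mem k hk σ) (K.inv_mem hk)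
        have ha : σ * k * σ⁻¹ * k⁻¹ ∈ alternatingGroup (Fin 6) := by
          rw [Equiv.Perm.mem_alternatingGroup, map_mul, map_mul, map_mul, map_inv, map_inv,
            mul_right_comm (Equiv.Perm.sign σ), mul_inv_cancel, one_mul, mul_inv_cancel]
        have hb : (⟨_, ha⟩ : alternatingGroup (Fin 6)) ∈ K.subgroupOf _ := hm
        rw [h1, Subgroup.mem_bot] at hb
        exact mul_inv_eq_iff_eq_mul.1 (mul_inv_eq_one.1 (congrArg Subtype.val hb))
      refine Equiv.ext fun x => ?_
      by_contra hx
      obtain ⟨z, hz⟩ : ∃ z : Fin 6, z ∉ ({x, k x} : Finset (Fin 6)) := by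
        by_contra hall
        push Not at hall
        have h2 := Finset.card_le_card (fun z _ => hall z : (Finset.univ : Finset (Fin 6)) ⊆ _)
        rw [Finset.card_univ, Fintype.card_fin] at h2
        have := h2.trans (Finset.card_le_two)
        omega
      simp only [Finset.mem_insert, Finset.mem_singleton, not_or] at hz
      have h3 := congrFun (congrArg DFunLike.coe (hcomm (Equiv.swap (k x) z))) x
      simp only [Perm.coe_mul, Function.comp_apply, Equiv.swap_apply_left] at h3
      rw [Equiv.swap_apply_of_ne_of_ne (fun e => hx (e.symm.trans (Perm.one_apply x).symm)) (Ne.symm hz.1)] at h3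
      exact hz.2 h3
    let η := MulAction.toPermHom (Perm (Fin 6)) (Perm (Fin 6) ⧸ R)
    have hη : Function.Injective η := (MonoidHom.ker_eq_bot_iff _).1 (R.normalCore_eq_ker ▸ hker)
    haveI : Fintype (Perm (Fin 6) ⧸ R) := Fintype.ofFinite _
    set q₀ : Perm (Fin 6) ⧸ R := ((1 : Perm (Fin 6)) : Perm (Fin 6) ⧸ R)
    have hfix : ∀ g : G, η (φ g) q₀ = q₀ := fun g => by
      show φ g • q₀ = q₀
      rw [MulAction.Quotient.smul_coe, QuotientGroup.eq]
      simp only [smul_eq_mul, mul_one]
      exact R.inv_mem ⟨g, rfl⟩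
    have hP : ∀ g x, (η.comp φ g x ≠ q₀) ↔ x ≠ q₀ := fun g x =>
      not_congr ⟨fun e => (η (φ g)).injective (e.trans (hfix g).symm), fun e => e ▸ hfix g⟩
    let ρ := restrict (η.comp φ) (fun x => x ≠ q₀) hP
    have hρ : Function.Injective ρ := by
      rw [← MonoidHom.ker_eq_bot_iff, eq_bot_iff]
      intro g hg
      refine Subgroup.mem_bot.2 (hφ (hη ?_))
      rw [map_one, map_one]
      refine Equiv.ext fun x => ?_
      by_cases hx : x = q₀
      · subst hx; exact hfix g
      · exact mem_ker_restrict.1 hg x hx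
    exact (five (β := {x : Perm (Fin 6) ⧸ R // x ≠ q₀})
      (by rw [Fintype.card_subtype_compl, Fintype.card_subtype_eq, ← Nat.card_eq_fintype_card,
        ← Subgroup.index_eq_card, hRi]) ρ hρ).1 hGc

end Cfsg.Lib.SolvStruct.AltEight
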