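import Mathlib
import Cfsg.Agent.SolvStruct.AltEight.Six
import Cfsg.Agent.S0678

/-!
Subgroups of the symmetric group of degree eight with trivial solvable radical, order divisible by five but not by seven.
-/

set_option autoImplicit false
set_option linter.unusedSectionVars false
set_option linter.style.haveILetI false

namespace Cfsg.Lib.SolvStruct.AltEight

open Equiv Subgroup
open scoped Pointwise

universe u

/-- no transitive group on eight points contains a five-cycle and has order prime to seven -/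
theorem no_five_transitive (R : Subgroup (Perm (Fin 8))) [MulAction.IsPretransitive R (Fin 8)] {σ : Perm (Fin 8)}
    (hσ : σ ∈ R) (hcyc : σ.IsCycle) (hs : σ.support.card = 5) (h7 : ¬ 7 ∣ Nat.card R) : False := by
  classical
  obtain ⟨x₀, hx₀⟩ := Finset.card_pos.1 (show 0 < σ.support.card by omega)
  have hprim : MulAction.IsPreprimitive R (Fin 8) := by
    refine MulAction.IsPreprimitive.of_isTrivialBlock_base x₀ fun {B} hxB hB => ?_
    rcases Set.eq_empty_or_nonempty (B \ {x₀}) with he | ⟨y, hyB, hy⟩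
    · left
      intro u hu v hv
      have h1 : u = x₀ := by_contra fun h => (Set.mem_empty_iff_false u).1 (he ▸ ⟨hu, h⟩)
      have h2 : v = x₀ := by_contra fun h => (Set.mem_empty_iff_false v).1 (he ▸ ⟨hv, h⟩)
      rw [h1, h2]
    right
    set s : R := ⟨σ, hσ⟩
    by_cases hsB : s • B = B
    · have hpow : ∀ n : ℕ, ∀ u ∈ B, (σ ^ n) u ∈ B := by
        intro n
        induction n with
        | zero => simp
        | succ n ih =>
          intro u hu
          rw [pow_succ', Perm.mul_apply]
          have := Set.smul_mem_smul_set (a := s) (ih u hu)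
          rw [hsB] at this
          exact this
      have hsub : (σ.support : Set (Fin 8)) ⊆ B := fun z hz => by
        obtain ⟨n, rfl⟩ := hcyc.exists_pow_eq (Perm.mem_support.1 hx₀) (Perm.mem_support.1 hz)
        exact hpow n x₀ hxB
      have h5 : 5 ≤ B.ncard := by
        rw [← hs, ← Set.ncard_coe_finset]
        exact Set.ncard_le_ncard hsub
      have hd : B.ncard ∣ 8 := by
        have := hB.ncard_dvd_card ⟨x₀, hxB⟩
        rwa [Nat.card_fin] at this
      have h8 : B.ncard = 8 := by
        have := Nat.le_of_dvd (by norm_num) hd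
        interval_cases B.ncard <;> omega
      exact Set.eq_univ_of_univ_subset (Set.eq_of_subset_of_ncard_le (Set.subset_univ B)
        (by rw [Set.ncard_univ, Nat.card_fin, h8])).ge
    exfalso
    have ho : orderOf s = 5 := by rw [← Subgroup.orderOf_coe]; exact hcyc.orderOf.trans hs
    -- the translates are disjoint
    have hdis : ∀ i j : Fin 5, i ≠ j → Disjoint (s ^ (i : ℕ) • B) (s ^ (j : ℕ) • B) := by
      intro i j hij
      have hg : s ^ ((i : ℤ) - j) = (s ^ (j : ℕ))⁻¹ * s ^ (i : ℕ) := by
        rw [sub_eq_neg_add, zpow_add, zpow_neg, zpow_natCast, zpow_natCast]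
      rcases hB.smul_eq_or_disjoint (s ^ ((i : ℤ) - j)) with e | hdj
      swap
      · rw [Set.disjoint_left]
        intro u hu hu'
        rw [Set.mem_smul_set_iff_inv_smul_mem] at hu'
        refine Set.disjoint_left.1 hdj ?_ hu'
        rw [hg, mul_smul, Set.smul_mem_smul_set_iff]
        exact hu
      refine (hsB ?_).elim
      have h1 : s ^ ((i : ℤ) - j) ∈ MulAction.stabilizer R B := MulAction.mem_stabilizer_iff.2 e
      have hne : s ^ ((i : ℤ) - j) ≠ 1 := fun e => hij (by
        have h := orderOf_dvd_iff_zpow_eq_one.2 e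
        rw [ho] at h
        have := i.2; have := j.2
        exact Fin.ext (by omega))
      have hgen : zpowers (s ^ ((i : ℤ) - j)) = zpowers s := by
        refine Subgroup.eq_of_le_of_card_ge (zpowers_le.2 (zpow_mem (mem_zpowers s) _)) ?_
        rw [Nat.card_zpowers, Nat.card_zpowers, ho]
        have hd : orderOf (s ^ ((i : ℤ) - j)) ∣ 5 := by
          have h := Subgroup.card_dvd_of_le
            (zpowers_le.2 (zpow_mem (mem_zpowers s) _) : zpowers (s ^ ((i : ℤ) - j)) ≤ zpowers s)
          rwa [Nat.card_zpowers, Nat.card_zpowers, ho] at h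
        exact (((Nat.dvd_prime (by norm_num)).1 hd).resolve_left (fun h => hne (orderOf_eq_one_iff.1 h))).ge
      exact MulAction.mem_stabilizer_iff.1 (zpowers_le.2 h1 (hgen.ge (mem_zpowers s)))
    let f : Fin 5 × Bool → Fin 8 := fun p => s ^ (p.1 : ℕ) • (if p.2 then y else x₀)
    have hf : Function.Injective f := by
      rintro ⟨i, a⟩ ⟨j, b⟩ e
      have hm : ∀ (k : Fin 5) (t : Bool), f (k, t) ∈ s ^ (k : ℕ) • B := fun k t =>
        Set.smul_mem_smul_set (by cases t <;> simp [hxB, hyB])
      obtain rfl : i = j := by_contra fun hne => Set.disjoint_left.1 (hdis i j hne) (hm i a) (e ▸ hm j b)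
      have e' := MulAction.injective (s ^ (i : ℕ)) e
      cases a <;> cases b <;> simp_all
    have := Fintype.card_le_of_injective f hf
    simp at this
  refine h7 ?_
  have h2 := hprim.is_two_pretransitive (s := (σ.support : Set (Fin 8))ᶜ) (n := 2)
    (by rw [Set.ncard_compl, Set.ncard_coe_finset, hs, Nat.card_fin]) (by rw [Nat.card_fin]; norm_num)
    (Equiv.Perm.isPretransitive_of_isCycle_mem hcyc hσ)
  have h3 := Cfsg.Agent.S0678.descFactorial_dvd (α := Fin 8) (M := R) (k := 2) (by simp) h2
  exact Nat.dvd_trans (by simp [Nat.descFactorial]) h3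

/-- the conclusion in the presence of an element of order five and none of order seven -/
theorem five_case {G : Type u} [Group G] [Finite G] (hrad : ∀ N : Subgroup G, N.Normal → Group.IsSolvable N → N = ⊥)
    (hns : ¬ Group.IsSolvable G) (φ : G →* Perm (Fin 8)) (hφ : Function.Injective φ)
    (h7 : ¬ 7 ∣ Nat.card G) (h5 : 5 ∣ Nat.card G) :
    Nonempty (G ≃* alternatingGroup (Fin 5)) ∨ Nonempty (G ≃* alternatingGroup (Fin 6)) ∨
      Nonempty (G ≃* Perm (Fin 5)) ∨ Nonempty (G ≃* Perm (Fin 6)) := by
  classical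
  haveI : Fact (Nat.Prime 5) := ⟨by norm_num⟩
  obtain ⟨c, hc⟩ := exists_prime_orderOf_dvd_card' 5 h5
  have hσo : orderOf (φ c) = 5 := by rw [orderOf_injective φ hφ, hc]
  have hcyc : (φ c).IsCycle :=
    Equiv.Perm.isCycle_of_prime_order' (hσo ▸ (by norm_num)) (by rw [hσo, Fintype.card_fin]; norm_num)
  have hsupp : (φ c).support.card = 5 := by rw [← hcyc.orderOf, hσo]
  obtain ⟨x₀, hx₀⟩ := Finset.card_pos.1 (show 0 < (φ c).support.card by omega)
  letI : MulAction G (Fin 8) := MulAction.compHom _ φ
  set O := MulAction.orbit G x₀ with hO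
  have hsub : ∀ z ∈ (φ c).support, z ∈ O := fun z hz => by
    obtain ⟨n, rfl⟩ := hcyc.exists_pow_eq (Perm.mem_support.1 hx₀) (Perm.mem_support.1 hz)
    exact ⟨c ^ n, show φ (c ^ n) x₀ = _ by rw [map_pow]⟩
  have h5O : 5 ≤ O.ncard := by
    rw [← hsupp, ← Set.ncard_coe_finset]
    exact Set.ncard_le_ncard hsub
  have hdvd : O.ncard ∣ Nat.card G := by
    rw [hO, ← MulAction.index_stabilizer]
    exact Subgroup.index_dvd_card _
  have h8O : O.ncard ≤ 8 := (Set.ncard_le_ncard (Set.subset_univ O)).trans (by rw [Set.ncard_univ, Nat.card_fin])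
  by_cases h8 : O.ncard = 8
  · exfalso
    haveI : MulAction.IsPretransitive φ.range (Fin 8) := by
      have hu : O = Set.univ := Set.eq_of_subset_of_ncard_le (Set.subset_univ O) (by rw [Set.ncard_univ, Nat.card_fin, h8])
      refine ⟨fun u v => ?_⟩
      obtain ⟨g, hg⟩ : u ∈ O := hu ▸ Set.mem_univ u
      obtain ⟨g', hg'⟩ : v ∈ O := hu ▸ Set.mem_univ v
      refine ⟨⟨φ (g' * g⁻¹), ⟨_, rfl⟩⟩, ?_⟩
      show φ (g' * g⁻¹) u = v
      rw [← show φ g x₀ = u from hg, map_mul, Perm.mul_apply, map_inv, Perm.inv_def, Equiv.symm_apply_apply]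
      exact hg'
    exact no_five_transitive φ.range ⟨c, rfl⟩ hcyc hsupp
      (by rw [← Nat.card_congr (MonoidHom.ofInjective hφ).toEquiv]; exact h7)
  have h7O : O.ncard ≠ 7 := fun h => h7 (h ▸ hdvd)
  have h6O : O.ncard ≤ 6 := by omega
  have hP : ∀ g x, φ g x ∈ O ↔ x ∈ O := fun g x => by
    constructor
    · rintro ⟨g', hg'⟩
      refine ⟨g⁻¹ * g', ?_⟩
      show φ (g⁻¹ * g') x₀ = x
      rw [map_mul, Perm.mul_apply, show φ g' x₀ = φ g x from hg', map_inv, Perm.inv_def, Equiv.symm_apply_apply]
    · rintro ⟨g', hg'⟩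
      refine ⟨g * g', ?_⟩
      show φ (g * g') x₀ = φ g x
      rw [map_mul, Perm.mul_apply, show φ g' x₀ = x from hg']
  let ρ := restrict φ (fun x => x ∈ O) hP
  have hker : ρ.ker = ⊥ := by
    refine hrad _ inferInstance ?_
    by_contra hns'
    have h60 := sixty_le hns'
    have hQ : ∀ g x, (φ.comp ρ.ker.subtype) g x ∉ O ↔ x ∉ O := fun g x => not_congr (hP _ x)
    let τ := restrict (φ.comp ρ.ker.subtype) (fun x => x ∉ O) hQ
    have hτ : Function.Injective τ := by
      rw [← MonoidHom.ker_eq_bot_iff, eq_bot_iff]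
      intro g hg
      refine Subgroup.mem_bot.2 (Subtype.ext (hφ ?_))
      rw [Subgroup.coe_one, map_one]
      refine Equiv.ext fun x => ?_
      by_cases hx : x ∈ O
      · exact mem_ker_restrict.1 g.2 x hx
      · exact mem_ker_restrict.1 hg x hx
    have h := Nat.card_le_card_of_injective τ hτ
    rw [Nat.card_perm] at h
    have h3 : Nat.card {x : Fin 8 // x ∉ O} ≤ 3 := by
      show Nat.card (Oᶜ : Set (Fin 8)) ≤ 3
      rw [Nat.card_coe_set_eq, Set.ncard_compl, Nat.card_fin]
      omega
    have := h.trans (Nat.factorial_le h3)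
    simp only [Nat.factorial] at this
    omega
  have hρ : Function.Injective ρ := (MonoidHom.ker_eq_bot_iff _).1 hker
  obtain ⟨ι⟩ : Nonempty ({x : Fin 8 // x ∈ O} ↪ Fin 6) := Function.Embedding.nonempty_of_card_le (by
    rw [Fintype.card_fin, ← Nat.card_eq_fintype_card]
    show Nat.card (O : Set (Fin 8)) ≤ 6
    rw [Nat.card_coe_set_eq]; exact h6O)
  exact six hns ((Equiv.Perm.viaEmbeddingHom ι).comp ρ) ((Equiv.Perm.viaEmbeddingHom_injective ι).comp hρ)

end Cfsg.Lib.SolvStruct.AltEight
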