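import Mathlib
import Cfsg.Agent.SolvStruct.AltEight.Six
import Cfsg.Agent.S0678
import Cfsg.Agent.S0495
import Cfsg.Agent.S4005
import Cfsg.Agent.Chars.Burnside
import Cfsg.Agent.Coprime.Fitting

/-!
Subgroups of the alternating group of degree eight with trivial solvable radical and an element of order seven.
-/

set_option autoImplicit false
set_option linter.unusedSectionVars false
set_option linter.style.haveILetI false

namespace Cfsg.Lib.SolvStruct.AltEight

open Equiv Subgroup

universe u

/-- a solvable transitive group of even permutations of seven points has order `7` or `21` -/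
theorem solvable_seven {α : Type*} [Fintype α] [DecidableEq α] (hα : Fintype.card α = 7) (R : Subgroup (Perm α))
    [MulAction.IsPretransitive R α] [Group.IsSolvable R] (heven : ∀ g ∈ R, Equiv.Perm.sign g = 1) :
    Nat.card R = 7 ∨ Nat.card R = 21 := by
  haveI : Fact (Nat.Prime 7) := ⟨by norm_num⟩
  obtain ⟨e, τ, hτ, hτe⟩ := Cfsg.Lib.PermGroups.PrimeDegree.exists_coord hα R
  obtain ⟨P, hP⟩ := Cfsg.Lib.PermGroups.PrimeDegree.sylow_coord hα R hτ hτe
  have hPc : Nat.card P = 7 := by
    show Nat.card (P : Subgroup R) = 7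
    rw [hP, Nat.card_zpowers, ← Subgroup.orderOf_coe]
    exact Cfsg.Lib.PermGroups.PrimeDegree.orderOf_coord hτe
  haveI : Nontrivial R := by
    refine ⟨⟨⟨τ, hτ⟩, 1, fun h => ?_⟩⟩
    have h7 := Cfsg.Lib.PermGroups.PrimeDegree.orderOf_coord hτe
    rw [show τ = 1 from congrArg Subtype.val h, orderOf_one] at h7
    norm_num at h7
  obtain ⟨r, hr, hW⟩ := Cfsg.Agent.S4005.exists_pCore_ne_bot R
  haveI := Fact.mk hr
  haveI : (Cfsg.pCore r R).Normal := inferInstance
  have h7 := Cfsg.Agent.S0678.seven_dvd_of_normal hα R _ hW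
  obtain ⟨k, hk⟩ := IsPGroup.iff_card.1 (Cfsg.Lib.Components.isPGroup_pCore (G := R) r)
  have hr7 : r = 7 := by
    rw [hk] at h7
    exact ((Nat.prime_dvd_prime_iff_eq (by norm_num) hr).1 ((Nat.Prime.dvd_of_dvd_pow (by norm_num) h7))).symm
  subst hr7
  have hWP : Cfsg.pCore 7 R = (P : Subgroup R) := by
    refine Subgroup.eq_of_le_of_card_ge (Cfsg.Lib.Coprime.pCore_le_sylow 7 P) ?_
    rw [hPc]
    exact Nat.le_of_dvd Nat.card_pos h7
  obtain ⟨d, hd, hRA, -⟩ := Cfsg.Agent.S0678.local_data hα hτe R hτ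
  have hnorm : ∀ g ∈ R, g * τ * g⁻¹ ∈ zpowers τ := fun g hg => by
    have h : (⟨g, hg⟩ : R) * ⟨τ, hτ⟩ * (⟨g, hg⟩ : R)⁻¹ ∈ (P : Subgroup R) := by
      rw [← hWP]
      exact (inferInstance : (Cfsg.pCore 7 R).Normal).conj_mem _ (hWP ▸ hP ▸ mem_zpowers _) _
    rw [hP] at h
    obtain ⟨n, hn⟩ := h
    exact ⟨n, congrArg Subtype.val hn⟩
  set A := normalizer ((zpowers τ : Subgroup (Perm α)) : Set (Perm α))
  have hle : R ≤ A := by
    intro g hg
    refine Subgroup.mem_normalizer_iff.2 fun y => ⟨?_, fun hy => ?_⟩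
    · rintro ⟨n, rfl⟩
      show g * τ ^ n * g⁻¹ ∈ _
      rw [← conj_zpow]
      exact Subgroup.zpow_mem _ (hnorm g hg) n
    · obtain ⟨n, hn⟩ := hy
      have h2 : g⁻¹ * τ ^ n * g⁻¹⁻¹ = y := by rw [show τ ^ n = g * y * g⁻¹ from hn]; group
      rw [← h2, ← conj_zpow]
      exact Subgroup.zpow_mem _ (hnorm g⁻¹ (R.inv_mem hg)) n
  rw [inf_eq_left.2 hle] at hRA
  have hodd : ¬ 2 ∣ d := by
    intro h2
    obtain ⟨⟨g, hg⟩, hog⟩ := exists_prime_orderOf_dvd_card' (G := R) 2 (hRA ▸ dvd_mul_of_dvd_right h2 7)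
    rw [← Subgroup.orderOf_coe] at hog
    change orderOf g = 2 at hog
    have hg2 : g ^ 2 = 1 := hog ▸ pow_orderOf_eq_one g
    obtain ⟨c, k, hck⟩ := Cfsg.Lib.PermGroups.PrimeDegree.affine_of_conj hτe (hnorm g hg)
    have hge : ∀ i, g (e i) = e (c + k * i) := fun i => by rw [← hck i, Equiv.apply_symm_apply]
    have hgg : ∀ i, c + k * (c + k * i) = i := fun i => by
      have h := congrFun (congrArg DFunLike.coe hg2) (e i)
      rw [sq, Perm.mul_apply, hge, hge, Perm.one_apply] at h
      exact e.injective h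
    have hk2 : k * k = 1 := by linear_combination hgg 1 - hgg 0
    have hkne : k ≠ 1 := by
      rintro rfl
      have hc : c = 0 := by
        have h := hgg 0
        simp only [one_mul, add_zero] at h
        have h2 : (2 : ZMod 7) * c = 0 := by linear_combination h
        exact (mul_eq_zero.1 h2).resolve_left (fun h => absurd h (by exact (show ¬ ((2 : Fin 7) = 0) by decide)))
      have h1 : g = 1 := Equiv.ext fun z => by
        obtain ⟨i, rfl⟩ := e.surjective z
        rw [hge, hc, one_mul, zero_add, Perm.one_apply]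
      rw [h1, orderOf_one] at hog
      norm_num at hog
    have hk : k = -1 := ((mul_self_eq_one_iff).1 hk2).resolve_left hkne
    have hfix : Fintype.card (Function.fixedPoints g) = 1 := by
      rw [Fintype.card_eq_one_iff]
      have hcz : c + k * (c * 4) = c * 4 := by
        rw [hk]
        have : (8 : ZMod 7) = 1 := rfl
        linear_combination (-c) * this
      refine ⟨⟨e (c * 4), show g (e (c * 4)) = e (c * 4) by rw [hge, hcz]⟩, ?_⟩
      rintro ⟨z, hz⟩
      obtain ⟨i, rfl⟩ := e.surjective z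
      have hi : c + k * i = i := e.injective ((hge i).symm.trans hz)
      refine Subtype.ext (congrArg e ?_)
      rw [hk] at hi
      have : (8 : ZMod 7) = 1 := rfl
      linear_combination (-4 : ZMod 7) * hi + (-i) * this
    have hs := heven g hg
    rw [Equiv.Perm.sign_of_pow_two_eq_one hg2, hα, hfix] at hs
    exact absurd hs (by decide)
  have hd' : d = 1 ∨ d = 3 := by
    have := Nat.le_of_dvd (by norm_num) hd
    interval_cases d <;> omega
  rcases hd' with rfl | rfl
  · exact Or.inl hRA
  · exact Or.inr hRA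

/-- the conclusion in the presence of an element of order seven -/
theorem seven {G : Type u} [Group G] [Finite G] (hrad : ∀ N : Subgroup G, N.Normal → Group.IsSolvable N → N = ⊥)
    (φ : G →* Perm (Fin 8)) (hφ : Function.Injective φ) (heven : ∀ g, Equiv.Perm.sign (φ g) = 1)
    (hno : Nat.card G = 1344 → ¬ IsSimpleGroup G) (h7 : 7 ∣ Nat.card G) :
    Nonempty (G ≃* alternatingGroup (Fin 7)) ∨ Nonempty (G ≃* alternatingGroup (Fin 8)) ∨
      (Nat.card G = 168 ∧ IsSimpleGroup G) := by
  classical
  haveI : Fact (Nat.Prime 7) := ⟨by norm_num⟩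
  obtain ⟨c, hc⟩ := exists_prime_orderOf_dvd_card' 7 h7
  set σ := φ c with hσdef
  have hσo : orderOf σ = 7 := by rw [hσdef, orderOf_injective φ hφ, hc]
  have hcyc : σ.IsCycle := Equiv.Perm.isCycle_of_prime_order' (hσo ▸ (by norm_num)) (by rw [hσo, Fintype.card_fin]; norm_num)
  have hsupp : σ.support.card = 7 := by rw [← hcyc.orderOf, hσo]
  obtain ⟨a, hae⟩ := Finset.card_eq_one.1 (show σ.supportᶜ.card = 1 by
    rw [Finset.card_compl, hsupp, Fintype.card_fin])
  have hfixa : σ a = a := by
    have : a ∈ σ.supportᶜ := hae ▸ Finset.mem_singleton_self a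
    simpa using this
  have hmoved : ∀ x, x ≠ a → σ x ≠ x := fun x hx he => hx (by
    have : x ∈ σ.supportᶜ := by simp [he]
    rw [hae] at this
    simpa using this)
  have hpow : ∀ x y, x ≠ a → y ≠ a → ∃ i : ℕ, φ (c ^ i) x = y := fun x y hx hy => by
    obtain ⟨i, hi⟩ := hcyc.exists_pow_eq (hmoved x hx) (hmoved y hy)
    exact ⟨i, by rw [map_pow]; exact hi⟩
  letI : MulAction G (Fin 8) := MulAction.compHom _ φ
  set K := MulAction.stabilizer G a with hK
  have hmemK : ∀ {g}, g ∈ K ↔ φ g a = a := Iff.rfl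
  have hcK : c ∈ K := hmemK.2 hfixa
  -- the orbit of the fixed point
  have horb : K = ⊤ ∨ K.index = 8 := by
    by_cases h : ∀ g, φ g a = a
    · exact Or.inl (eq_top_iff.2 fun g _ => h g)
    push Not at h
    obtain ⟨g₀, hg₀⟩ := h
    refine Or.inr ?_
    have : MulAction.orbit G a = Set.univ := Set.eq_univ_of_forall fun y => by
      by_cases hy : y = a
      · rw [hy]; exact MulAction.mem_orbit_self a
      obtain ⟨i, hi⟩ := hpow _ y hg₀ hy
      exact ⟨c ^ i * g₀, (by rw [map_mul, Perm.mul_apply]; exact hi : φ (c ^ i * g₀) a = y)⟩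
    rw [hK, MulAction.index_stabilizer, this, Set.ncard_univ, Nat.card_fin]
  have hP : ∀ (g : K) x, ((φ.comp K.subtype) g x ≠ a) ↔ x ≠ a := fun g x =>
    not_congr ⟨fun e => (φ g).injective (e.trans (hmemK.1 g.2).symm), fun e => e ▸ hmemK.1 g.2⟩
  let ρ := restrict (φ.comp K.subtype) (fun x => x ≠ a) hP
  have hρ : Function.Injective ρ := by
    rw [← MonoidHom.ker_eq_bot_iff, eq_bot_iff]
    intro g hg
    refine Subgroup.mem_bot.2 (Subtype.ext (hφ ?_))
    rw [Subgroup.coe_one, map_one]
    refine Equiv.ext fun x => ?_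
    by_cases hx : x = a
    · subst hx; exact hmemK.1 g.2
    · exact mem_ker_restrict.1 hg x hx
  have hρs : ∀ g : K, Equiv.Perm.sign (ρ g) = 1 := fun g =>
    (Equiv.Perm.sign_subtypePerm (p := fun x => x ≠ a) ((φ.comp K.subtype) g) (hP g) (fun x hx (hxa : x = a) => hx (by rw [hxa]; exact hmemK.1 g.2))).trans (heven g)
  have hS : Fintype.card {x : Fin 8 // x ≠ a} = 7 := by
    rw [Fintype.card_subtype_compl, Fintype.card_subtype_eq, Fintype.card_fin]
  set R := ρ.range with hR
  have hRK : Nat.card R = Nat.card K := (Nat.card_congr (MonoidHom.ofInjective hρ).toEquiv).symm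
  haveI : MulAction.IsPretransitive R {x : Fin 8 // x ≠ a} := ⟨fun x y => by
    obtain ⟨i, hi⟩ := hpow x y x.2 y.2
    exact ⟨⟨ρ ⟨c ^ i, K.pow_mem hcK i⟩, ⟨_, rfl⟩⟩, Subtype.ext hi⟩⟩
  -- normal subgroups
  have hnormal : K.index = 8 → ∀ N : Subgroup G, N.Normal → N ≠ ⊥ → Nat.card N = 8 * Nat.card (K.subgroupOf N) := by
    intro hi N hN hNb
    have hmove : ∃ n ∈ N, φ n a ≠ a := by
      by_contra hall
      push Not at hall
      refine hNb (eq_bot_iff.2 fun n hn => Subgroup.mem_bot.2 (hφ ?_))
      rw [map_one]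
      refine Equiv.ext fun y => ?_
      have : MulAction.orbit G a = Set.univ :=
        Set.eq_of_subset_of_ncard_le (Set.subset_univ _) (by
          rw [Set.ncard_univ, Nat.card_fin, ← MulAction.index_stabilizer]; exact hi.ge)
      obtain ⟨g, hg⟩ : y ∈ MulAction.orbit G a := this ▸ Set.mem_univ y
      change φ g a = y at hg
      have h1 := hall _ (hN.conj_mem n hn g⁻¹)
      rw [inv_inv, map_mul, map_mul, map_inv, Perm.mul_apply, Perm.mul_apply, hg, Perm.inv_def,
        Equiv.symm_apply_eq, hg] at h1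
      exact h1
    obtain ⟨n₀, hn₀, hn₀a⟩ := hmove
    have horbN : MulAction.orbit N a = Set.univ := Set.eq_univ_of_forall fun y => by
      by_cases hy : y = a
      · rw [hy]; exact MulAction.mem_orbit_self a
      obtain ⟨i, hi⟩ := hpow _ y hn₀a hy
      refine ⟨⟨c ^ i * n₀ * (c ^ i)⁻¹, hN.conj_mem n₀ hn₀ _⟩, ?_⟩
      show φ (c ^ i * n₀ * (c ^ i)⁻¹) a = y
      have hci : φ (c ^ i)⁻¹ a = a := hmemK.1 (K.inv_mem (K.pow_mem hcK i))
      rw [map_mul, map_mul, Perm.mul_apply, Perm.mul_apply, hci, hi]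
    have hidx : (K.subgroupOf N).index = 8 := by
      have : K.subgroupOf N = MulAction.stabilizer N a := Subgroup.ext fun n => Iff.rfl
      rw [this, MulAction.index_stabilizer, horbN, Set.ncard_univ, Nat.card_fin]
    rw [← (K.subgroupOf N).card_mul_index, hidx, mul_comm]
  have hG : Nat.card G = Nat.card R * K.index := by rw [hRK, K.card_mul_index]
  have hnsG : ¬ Group.IsSolvable G := fun h => by
    haveI : Group.IsSolvable (⊤ : Subgroup G) := inferInstance
    have h1 : c ∈ (⊥ : Subgroup G) := hrad ⊤ inferInstance inferInstance ▸ Subgroup.mem_top c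
    rw [Subgroup.mem_bot.1 h1, orderOf_one] at hc
    norm_num at hc
  by_cases hsol : Group.IsSolvable R
  · have hcard := solvable_seven hS R (by rintro _ ⟨g, rfl⟩; exact hρs g)
    rcases horb with htop | hi
    · refine absurd ?_ hnsG
      haveI := hsol
      exact Group.isSolvable_of_isSolvable_injective
        (f := (MonoidHom.ofInjective hρ).toMonoidHom.comp ((Subgroup.topEquiv.symm.trans (MulEquiv.subgroupCongr htop.symm)).toMonoidHom))
        ((MonoidHom.ofInjective hρ).injective.comp
          (Subgroup.topEquiv.symm.trans (MulEquiv.subgroupCongr htop.symm)).injective)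
    rw [hi] at hG
    rcases hcard with h | h
    · refine absurd ?_ hnsG
      exact Cfsg.Lib.Chars.burnside_isSolvable 2 7 Nat.prime_two (by norm_num) G ⟨3, 1, by rw [hG, h]; rfl⟩
    · right; right
      have h168 : Nat.card G = 168 := by rw [hG, h]
      refine ⟨h168, ?_⟩
      haveI : Nontrivial G := Finite.one_lt_card_iff_nontrivial.1 (by omega)
      refine ⟨fun N hN => or_iff_not_imp_left.2 fun hb => Subgroup.eq_top_of_card_eq _ ?_⟩
      have h60 := sixty_le (G := N) fun hs => hb (hrad N hN hs)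
      have hd := h168 ▸ Subgroup.card_subgroup_dvd_card N
      have h8 := hnormal hi N hN hb
      obtain ⟨j, hj⟩ := hd
      have hj' : j ≤ 2 := by nlinarith
      rw [h168]
      interval_cases j <;> omega
  rcases Classical.em (alternatingGroup {x : Fin 8 // x ≠ a} ≤ R) with hA | hA
  · have hRA : R = alternatingGroup {x : Fin 8 // x ≠ a} :=
      le_antisymm (by rintro _ ⟨g, rfl⟩; exact Equiv.Perm.mem_alternatingGroup.2 (hρs g)) hA
    have hRc : Nat.card R = 2520 := by
      haveI : Nontrivial {x : Fin 8 // x ≠ a} := Fintype.one_lt_card_iff_nontrivial.1 (by omega)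
      have h := (alternatingGroup {x : Fin 8 // x ≠ a}).card_mul_index
      rw [alternatingGroup.index_eq_two, Nat.card_perm, Nat.card_eq_fintype_card, Nat.card_eq_fintype_card, hS] at h
      rw [hRA, Nat.card_eq_fintype_card]
      simp only [Nat.factorial] at h
      omega
    rcases horb with htop | hi
    · left
      have hle : ∀ g : K, Equiv.Perm.sign (((Fintype.equivFinOfCardEq hS).permCongrHom.toMonoidHom.comp ρ) g) = 1 :=
        fun g => (Equiv.Perm.sign_permCongr _ _).trans (hρs g)
      let ψ : K →* alternatingGroup (Fin 7) :=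
        ((Fintype.equivFinOfCardEq hS).permCongrHom.toMonoidHom.comp ρ).codRestrict _
          fun g => Equiv.Perm.mem_alternatingGroup.2 (hle g)
      have hψ : Function.Injective ψ := fun x y e =>
        hρ ((Fintype.equivFinOfCardEq hS).permCongrHom.injective (congrArg Subtype.val e))
      have hc7 : Nat.card (alternatingGroup (Fin 7)) = 2520 := by
        have h := (alternatingGroup (Fin 7)).card_mul_index
        rw [alternatingGroup.index_eq_two, Nat.card_perm, Nat.card_fin] at h
        simp only [Nat.factorial] at h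
        omega
      exact ⟨(Subgroup.topEquiv.symm.trans (MulEquiv.subgroupCongr htop.symm)).trans
        (MulEquiv.ofBijective ψ ((Nat.bijective_iff_injective_and_card ψ).2 ⟨hψ, by rw [← hRK, hRc, hc7]⟩))⟩
    · right; left
      let ψ : G →* alternatingGroup (Fin 8) := φ.codRestrict _ fun g => Equiv.Perm.mem_alternatingGroup.2 (heven g)
      have hψ : Function.Injective ψ := fun x y e => hφ (congrArg Subtype.val e)
      have hc8 : Nat.card (alternatingGroup (Fin 8)) = 20160 := by
        have h := (alternatingGroup (Fin 8)).card_mul_index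
        rw [alternatingGroup.index_eq_two, Nat.card_perm, Nat.card_fin] at h
        simp only [Nat.factorial] at h
        omega
      exact ⟨MulEquiv.ofBijective ψ ((Nat.bijective_iff_injective_and_card ψ).2 ⟨hψ, by rw [hG, hRc, hi, hc8]⟩)⟩
  · obtain ⟨h168, hsimp⟩ := Cfsg.Agent.S0678.result hS R hsol hA
    haveI := hsimp
    haveI : Nontrivial K := ⟨⟨⟨c, hcK⟩, 1, fun e => by
      have h1 : c = 1 := congrArg Subtype.val e
      rw [h1, orderOf_one] at hc
      norm_num at hc⟩⟩
    have hKs : IsSimpleGroup K := (MonoidHom.ofInjective hρ).isSimpleGroup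
    rcases horb with htop | hi
    · refine Or.inr (Or.inr ⟨?_, ?_⟩)
      · rw [← h168, hRK, htop, Subgroup.card_top]
      · haveI := hKs
        haveI : Nontrivial G := ⟨⟨c, 1, fun e => by rw [e, orderOf_one] at hc; norm_num at hc⟩⟩
        exact ((MulEquiv.subgroupCongr htop).trans Subgroup.topEquiv).symm.isSimpleGroup
    exfalso
    have hG' : Nat.card G = 1344 := by rw [hG, h168, hi]
    haveI : Nontrivial G := Finite.one_lt_card_iff_nontrivial.1 (by omega)
    refine hno hG' ⟨fun N hN => or_iff_not_imp_left.2 fun hb => ?_⟩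
    have h8 := hnormal hi N hN hb
    rcases hKs.eq_bot_or_eq_top_of_normal (N.subgroupOf K) inferInstance with h | h
    · exfalso
      have h1 : K.subgroupOf N = ⊥ := by
        rw [eq_bot_iff]
        intro n hn
        have hm : (⟨(n : G), hn⟩ : K) ∈ N.subgroupOf K := n.2
        rw [h, Subgroup.mem_bot] at hm
        exact Subgroup.mem_bot.2 (Subtype.ext (congrArg (fun u : K => (u : G)) hm))
      rw [h1, Subgroup.card_bot, mul_one] at h8
      haveI : Fact (Nat.Prime 2) := ⟨Nat.prime_two⟩
      haveI := (IsPGroup.of_card (p := 2) (n := 3) (G := N) (by rw [h8]; rfl)).isNilpotent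
      exact hb (hrad N hN inferInstance)
    · refine Subgroup.eq_top_of_card_eq _ ?_
      have h1 : Nat.card (K.subgroupOf N) = Nat.card K := by
        have hKN : K ≤ N := fun x hx => Subgroup.mem_subgroupOf.1 (h ▸ Subgroup.mem_top (⟨x, hx⟩ : K) : (⟨x, hx⟩ : K) ∈ N.subgroupOf K)
        exact Nat.card_congr (Subgroup.subgroupOfEquivOfLe hKN).toEquiv
      rw [h8, h1, ← hRK, h168, hG']

end Cfsg.Lib.SolvStruct.AltEight
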