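import Mathlib
import Cfsg.Agent.SolvStruct.AltEight.Five
import Cfsg.Agent.SolvStruct.AltEight.Seven
import Cfsg.Agent.SolvStruct.AltEight.GLFour
import Cfsg.Agent.Components.Cores
import Cfsg.Agent.Components.PComponents

/-!
Subgroups of the general linear group of dimension four over two elements with trivial radicals.
-/

set_option autoImplicit false
set_option linter.unusedSectionVars false
set_option linter.style.haveILetI false

namespace Cfsg.Lib.SolvStruct.AltEight

open Matrix Subgroup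

/-- trivial cores at two give a trivial solvable radical -/
theorem rad_bot {G : Type} [Group G] [Finite G] (hO : Cfsg.pPrimeCore 2 G = ⊥) (hO2 : Cfsg.pCore 2 G = ⊥)
    (N : Subgroup G) (hN : N.Normal) (hs : Group.IsSolvable N) : N = ⊥ := by
  by_contra hne
  haveI : Nontrivial N := (Subgroup.nontrivial_iff_ne_bot N).2 hne
  obtain ⟨r, hr, hW⟩ := Cfsg.Agent.S4005.exists_pCore_ne_bot N
  haveI := Fact.mk hr
  set W := (Cfsg.pCore r N).map N.subtype with hWdef
  haveI : (Cfsg.pCore r N).Characteristic := inferInstance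
  haveI : W.Normal := ConjAct.normal_of_characteristic_of_normal
  have hWp : IsPGroup r W := (Cfsg.Lib.Components.isPGroup_pCore r).map _
  have hWb : W ≠ ⊥ := fun h => hW ((Subgroup.map_eq_bot_iff_of_injective _ N.subtype_injective).1 h)
  haveI : Fact (Nat.Prime 2) := ⟨Nat.prime_two⟩
  rcases eq_or_ne r 2 with rfl | hr2
  · exact hWb (le_bot_iff.1 ((Cfsg.Lib.Components.le_pCore hWp).trans hO2.le))
  · obtain ⟨k, hk⟩ := IsPGroup.iff_card.1 hWp
    refine hWb (le_bot_iff.1 ((Cfsg.Lib.Components.le_pPrimeCore (p := 2) ?_).trans hO.le))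
    rw [hk]
    exact Nat.Coprime.pow_left k ((Nat.coprime_primes hr Nat.prime_two).2 hr2)

/-- a simple group of order 168 is the general linear group in dimension three -/
theorem equiv_gl_three {G : Type} [Group G] [Finite G] (h : Nat.card G = 168) [IsSimpleGroup G] :
    Nonempty (G ≃* GL (Fin 3) (ZMod 2)) := by
  haveI : Fact (Nat.Prime 7) := ⟨by norm_num⟩
  haveI : Fact (Nat.Prime 2) := ⟨Nat.prime_two⟩
  obtain ⟨e⟩ := gl_equiv_psl 3
  haveI := Cfsg.Lib.Classical.isSimpleGroup_PSL_fin (F := ZMod 2) (n := 3) (by norm_num) (by omega)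
  haveI : IsSimpleGroup (GL (Fin 3) (ZMod 2)) := e.isSimpleGroup
  have hc : Nat.card (GL (Fin 3) (ZMod 2)) = 168 := by
    rw [Matrix.card_GL_field, ZMod.card, Fin.prod_univ_three]
    norm_num
  obtain ⟨e₁⟩ := Cfsg.Agent.S0495.result h (F := ZMod 7) (ZMod.card 7)
  obtain ⟨e₂⟩ := Cfsg.Agent.S0495.result hc (F := ZMod 7) (ZMod.card 7)
  exact ⟨e₁.trans e₂.symm⟩

/-- **subgroups with trivial radicals** -/
theorem main (H : Subgroup (GL (Fin 4) (ZMod 2))) (hH : H ≠ ⊥) (hO : Cfsg.pPrimeCore 2 ↥H = ⊥)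
    (hO2 : Cfsg.pCore 2 ↥H = ⊥) :
    (∃ n : ℕ, 5 ≤ n ∧ n ≤ 8 ∧ Nonempty (↥H ≃* alternatingGroup (Fin n))) ∨
    Nonempty (↥H ≃* Equiv.Perm (Fin 5)) ∨ Nonempty (↥H ≃* Equiv.Perm (Fin 6)) ∨ Nonempty (↥H ≃* GL (Fin 3) (ZMod 2)) := by
  classical
  haveI : Fact (Nat.Prime 2) := ⟨Nat.prime_two⟩
  have hrad := rad_bot hO hO2
  have hns : ¬ Group.IsSolvable H := fun h => by
    haveI : Group.IsSolvable (⊤ : Subgroup H) := inferInstance
    refine hH (eq_bot_iff.2 fun x hx => Subgroup.mem_bot.2 ?_)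
    have h1 := Subgroup.mem_top (⟨x, hx⟩ : H)
    rw [hrad ⊤ inferInstance inferInstance, Subgroup.mem_bot] at h1
    exact congrArg Subtype.val h1
  obtain ⟨e₁⟩ := gl_equiv_psl 4
  obtain ⟨e₂⟩ := Cfsg.Lib.Classical.PSLFourTwo.equiv (F := ZMod 2) (ZMod.card 2)
  let φ : H →* Equiv.Perm (Fin 8) :=
    (alternatingGroup (Fin 8)).subtype.comp ((e₁.trans e₂).toMonoidHom.comp H.subtype)
  have hφ : Function.Injective φ :=
    (Subgroup.subtype_injective _).comp ((e₁.trans e₂).injective.comp H.subtype_injective)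
  have heven : ∀ g, Equiv.Perm.sign (φ g) = 1 := fun g => Equiv.Perm.mem_alternatingGroup.1 ((e₁.trans e₂) g).2
  have hdvd : Nat.card H ∣ 20160 := by
    have h := Subgroup.card_dvd_of_injective ((e₁.trans e₂).toMonoidHom.comp H.subtype)
      ((e₁.trans e₂).injective.comp H.subtype_injective)
    have h8 := (alternatingGroup (Fin 8)).card_mul_index
    rw [alternatingGroup.index_eq_two, Nat.card_perm, Nat.card_fin] at h8
    rwa [show Nat.card (alternatingGroup (Fin 8)) = 20160 by simp only [Nat.factorial] at h8; omega] at h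
  by_cases h7 : 7 ∣ Nat.card H
  · rcases seven hrad φ hφ heven (no_simple_1344 H) h7 with h | h | ⟨h, hs⟩
    · exact Or.inl ⟨7, by norm_num, by norm_num, h⟩
    · exact Or.inl ⟨8, by norm_num, le_rfl, h⟩
    · haveI := hs
      exact Or.inr (Or.inr (Or.inr (equiv_gl_three h)))
  by_cases h5 : 5 ∣ Nat.card H
  · rcases five_case hrad hns φ hφ h7 h5 with h | h | h | h
    · exact Or.inl ⟨5, le_rfl, by norm_num, h⟩
    · exact Or.inl ⟨6, by norm_num, by norm_num, h⟩
    · exact Or.inr (Or.inl h)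
    · exact Or.inr (Or.inr (Or.inl h))
  exfalso
  refine hns (Cfsg.Lib.Chars.burnside_isSolvable 2 3 Nat.prime_two Nat.prime_three H ?_)
  have hc : (Nat.card H).Coprime 35 := by
    rw [show (35 : ℕ) = 5 * 7 from rfl]
    exact (((Nat.Prime.coprime_iff_not_dvd (by norm_num)).2 h5).symm).mul_right
      ((Nat.Prime.coprime_iff_not_dvd (by norm_num)).2 h7).symm
  have hd : Nat.card H ∣ 2 ^ 6 * 3 ^ 2 := hc.dvd_of_dvd_mul_right (by simpa using hdvd)
  obtain ⟨a, b, ha, hb, hab⟩ := Nat.dvd_mul.1 hd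
  obtain ⟨i, -, rfl⟩ := (Nat.dvd_prime_pow Nat.prime_two).1 ha
  obtain ⟨j, -, rfl⟩ := (Nat.dvd_prime_pow Nat.prime_three).1 hb
  exact ⟨i, j, hab.symm⟩

end Cfsg.Lib.SolvStruct.AltEight
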