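import Mathlib
import Cfsg.Agent.SolvStruct.AltEight.GLFour

/-!
The alternating group of degree 7 on the non-zero vectors of the four-dimensional space over two
elements.
-/

set_option autoImplicit false
set_option linter.unusedSectionVars false
set_option linter.style.haveILetI false

namespace Cfsg.Lib.SolvStruct.AltEight

open Matrix Subgroup MulAction

/-- Two-transitivity from fixed-point counts. -/
theorem two_transitive_fifteen {H Ω : Type*} [Group H] [Finite H] [MulAction H Ω] [Finite Ω]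
    [IsSimpleGroup H] (hcard : Nat.card H = 2520) (hΩ : Nat.card Ω = 15)
    (hfaith : ∀ h : H, (∀ a : Ω, h • a = a) → h = 1)
    (h5 : ∀ h : H, orderOf h = 5 → ∀ a : Ω, h • a ≠ a)
    (h7 : ∀ h : H, orderOf h = 7 → ∀ a b : Ω, h • a = a → h • b = b → a = b) :
    ∀ a b a' b' : Ω, a ≠ b → a' ≠ b' → ∃ h : H, h • a = a' ∧ h • b = b' := by
  classical
  haveI : Fact (Nat.Prime 5) := ⟨by norm_num⟩
  haveI : Fact (Nat.Prime 7) := ⟨by norm_num⟩
  haveI : Fact (Nat.Prime 2) := ⟨Nat.prime_two⟩
  obtain ⟨g5, hg5⟩ := exists_prime_orderOf_dvd_card' (G := H) 5 (by rw [hcard]; norm_num)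
  have hcardO : ∀ a : Ω, Nat.card (orbit H a) * Nat.card (stabilizer H a) = 2520 := fun a => by
    rw [← hcard, ← Nat.card_prod]
    exact Nat.card_congr (orbitProdStabilizerEquivGroup H a)
  have hdvd5 : ∀ a : Ω, 5 ∣ Nat.card (orbit H a) := by
    intro a
    rcases (show Nat.Prime 5 by norm_num).dvd_mul.mp (show 5 ∣ Nat.card (orbit H a) * Nat.card (stabilizer H a) by
      rw [hcardO]; norm_num) with h | h
    · exact h
    · obtain ⟨s, hs⟩ := exists_prime_orderOf_dvd_card' (G := stabilizer H a) 5 h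
      exact absurd s.2 (h5 s (by rw [Subgroup.orderOf_coe, hs]) a)
  have hne5 : ∀ a : Ω, Nat.card (orbit H a) ≠ 5 := by
    intro a h
    rcases Subgroup.Normal.eq_bot_or_eq_top (inferInstance : (MulAction.toPermHom H (orbit H a)).ker.Normal) with hk | hk
    · haveI := Fintype.ofFinite (orbit H a)
      have h1 := Nat.card_le_card_of_injective _ ((MonoidHom.ker_eq_bot_iff _).mp hk)
      rw [hcard, Nat.card_perm, h] at h1
      norm_num [Nat.factorial] at h1
    · have h1 : g5 ∈ (MulAction.toPermHom H (orbit H a)).ker := hk ▸ Subgroup.mem_top _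
      have h2 := congrArg Subtype.val (Equiv.Perm.congr_fun (MonoidHom.mem_ker.mp h1) ⟨a, mem_orbit_self a⟩)
      exact h5 g5 hg5 a h2
  have hge : ∀ a : Ω, 10 ≤ Nat.card (orbit H a) := by
    intro a
    obtain ⟨k, hk⟩ := hdvd5 a
    have h0 : 0 < Nat.card (orbit H a) := Nat.card_pos_iff.mpr ⟨⟨⟨a, mem_orbit_self a⟩⟩, inferInstance⟩
    have := hne5 a
    omega
  have htrans : ∀ a a' : Ω, a' ∈ orbit H a := by
    intro a a'
    by_contra h
    have hdisj : Disjoint (orbit H a) (orbit H a') := Set.disjoint_left.mpr fun x hx hx' => h (by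
      rw [← orbit_eq_iff.mpr hx, orbit_eq_iff.mpr hx']; exact mem_orbit_self a')
    have h1 := Set.ncard_union_eq hdisj (Set.toFinite _) (Set.toFinite _)
    have h2 : (orbit H a ∪ orbit H a').ncard ≤ 15 := hΩ ▸ Set.ncard_le_card _
    rw [← Nat.card_coe_set_eq (orbit H a), ← Nat.card_coe_set_eq (orbit H a')] at h1
    have := hge a
    have := hge a'
    omega
  have horb : ∀ a : Ω, Nat.card (orbit H a) = 15 := fun a => by
    rw [show orbit H a = Set.univ from Set.eq_univ_iff_forall.mpr (htrans a), Nat.card_congr (Equiv.Set.univ Ω), hΩ]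
  -- the orbit of a swapped pair
  obtain ⟨t, ht⟩ := exists_prime_orderOf_dvd_card' (G := H) 2 (by rw [hcard]; norm_num)
  obtain ⟨w, hw⟩ : ∃ w : Ω, t • w ≠ w := by
    by_contra hc
    push Not at hc
    rw [hfaith t hc, orderOf_one] at ht
    omega
  set O := orbit H (w, t • w) with hO
  have htt : t • t • w = w := by
    rw [← mul_smul, ← pow_two, ← ht, pow_orderOf_eq_one, one_smul]
  have hoff : ∀ q ∈ O, q.1 ≠ q.2 := by
    rintro _ ⟨h, rfl⟩ e
    exact hw (smul_left_cancel h e).symm
  have hswap : ∀ q ∈ O, q.swap ∈ O := by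
    rintro _ ⟨h, rfl⟩
    refine ⟨h * t, ?_⟩
    show ((h * t) • w, (h * t) • t • w) = (h • t • w, h • w)
    rw [mul_smul, mul_smul, htt]
  have hcardS : Nat.card (stabilizer H w) = 168 := by
    have := hcardO w
    rw [horb] at this
    omega
  set S2 := stabilizer H (w, t • w) with hS2
  have hS2le : S2 ≤ stabilizer H w := fun h hh => congrArg Prod.fst (mem_stabilizer_iff.mp hh)
  have h7O : ¬ 7 ∣ Nat.card S2 := fun h => by
    obtain ⟨s, hs⟩ := exists_prime_orderOf_dvd_card' (G := S2) 7 h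
    have h1 := mem_stabilizer_iff.mp s.2
    exact hw (h7 s (by rw [Subgroup.orderOf_coe, hs]) w (t • w) (congrArg Prod.fst h1) (congrArg Prod.snd h1)).symm
  have hOc : Nat.card O * Nat.card S2 = 2520 := by
    rw [← hcard, ← Nat.card_prod]
    exact Nat.card_congr (orbitProdStabilizerEquivGroup H (w, t • w))
  have hS2d : Nat.card S2 ∣ 168 := hcardS ▸ card_dvd_of_le hS2le
  have heven : 2 ∣ Nat.card O := by
    haveI := Fintype.ofFinite O
    rw [Nat.card_eq_fintype_card, ← ZMod.natCast_eq_zero_iff, ← Finset.card_univ, Finset.card_eq_sum_ones, Nat.cast_sum]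
    refine Finset.sum_involution (fun q _ => (⟨q.1.swap, hswap q.1 q.2⟩ : O)) (fun q _ => ?_) (fun q _ _ => ?_)
      (fun q _ => Finset.mem_univ _) (fun q _ => Subtype.ext (Prod.swap_swap _))
    · rw [Nat.cast_one]; rfl
    · intro e
      exact hoff q.1 q.2 (congrArg Prod.fst (congrArg Subtype.val e)).symm
  have hO210 : Nat.card O = 210 := by
    have hk : ∃ k, Nat.card O = 15 * k ∧ k * Nat.card S2 = 168 := by
      obtain ⟨k, hk⟩ := hS2d
      refine ⟨k, ?_, by rw [mul_comm]; exact hk.symm⟩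
      have hpos : 0 < Nat.card S2 := Nat.card_pos
      apply Nat.eq_of_mul_eq_mul_right hpos
      rw [hOc, mul_assoc, mul_comm k, ← hk, show 15 * 168 = 2520 from rfl]

    obtain ⟨k, hk1, hk2⟩ := hk
    have h7k : 7 ∣ k := ((show Nat.Prime 7 by norm_num).dvd_mul.mp (show 7 ∣ k * Nat.card S2 by
      rw [hk2]; norm_num)).resolve_right h7O
    have h2k : 2 ∣ k := by
      rw [hk1] at heven
      omega
    have hle : Nat.card O ≤ 210 := by
      have : O ⊆ (Set.diagonal Ω)ᶜ := fun q hq => hoff q hq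
      have h1 := Nat.card_mono (Set.toFinite _) this
      rw [Nat.card_coe_set_eq (Set.diagonal Ω)ᶜ, Set.ncard_compl, Nat.card_prod, hΩ] at h1
      rw [← Nat.card_coe_set_eq, Nat.card_congr (Equiv.setCongr (Set.range_diag (α := Ω)).symm),
        Nat.card_range_of_injective (fun a b e => congrArg Prod.fst e), hΩ] at h1
      omega
    have hkpos : k ≠ 0 := fun h => by rw [h, zero_mul] at hk2; omega
    omega
  have hall : ∀ a b : Ω, a ≠ b → (a, b) ∈ O := by
    intro a b hab
    have hsub : O ⊆ (Set.diagonal Ω)ᶜ := fun q hq => hoff q hq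
    have hc : (Set.diagonal Ω)ᶜ.ncard ≤ O.ncard := by
      rw [Set.ncard_compl, Nat.card_prod, hΩ, ← Nat.card_coe_set_eq O, hO210,
        ← Nat.card_coe_set_eq, Nat.card_congr (Equiv.setCongr (Set.range_diag (α := Ω)).symm),
        Nat.card_range_of_injective (fun a b e => congrArg Prod.fst e), hΩ]
    rw [Set.eq_of_subset_of_ncard_le hsub hc (Set.toFinite _)]
    exact hab
  intro a b a' b' hab hab'
  obtain ⟨h, hh⟩ := hall a b hab
  obtain ⟨h', hh'⟩ := hall a' b' hab'
  refine ⟨h' * h⁻¹, ?_, ?_⟩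
  · rw [mul_smul, show a = h • w from (congrArg Prod.fst hh).symm, inv_smul_smul]
    exact congrArg Prod.fst hh'
  · rw [mul_smul, show b = h • (t • w) from (congrArg Prod.snd hh).symm, inv_smul_smul]
    exact congrArg Prod.snd hh'

/-- Statement S2551. -/
theorem seven_in_gl_four {F : Type*} [Field F] [Fintype F] (hF : Fintype.card F = 2) :
    (∃ H : Subgroup (GL (Fin 4) F), Nonempty (H ≃* alternatingGroup (Fin 7))) ∧
    ∀ H : Subgroup (GL (Fin 4) F), Nonempty (H ≃* alternatingGroup (Fin 7)) →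
      ∀ v w v' w' : Fin 4 → F, v ≠ 0 → w ≠ 0 → v ≠ w → v' ≠ 0 → w' ≠ 0 → v' ≠ w' →
      ∃ g ∈ H, (g : Matrix (Fin 4) (Fin 4) F).mulVec v = v' ∧ (g : Matrix (Fin 4) (Fin 4) F).mulVec w = w' := by
  classical
  haveI : IsSimpleGroup (alternatingGroup (Fin 7)) := alternatingGroup.isSimpleGroup (by simp)
  constructor
  · haveI : Fact (Nat.Prime 2) := ⟨Nat.prime_two⟩
    obtain ⟨e1⟩ := gl_equiv_psl 4
    obtain ⟨e2⟩ := Cfsg.Lib.Classical.PSLFourTwo.equiv (F := ZMod 2) (ZMod.card 2)
    haveI : CharP F 2 := charP_of_card_eq_prime hF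
    let r : ZMod 2 ≃+* F := ZMod.ringEquivOfPrime F Nat.prime_two hF
    let e3 : GL (Fin 4) (ZMod 2) ≃* GL (Fin 4) F := Units.mapEquiv (RingEquiv.mapMatrix r).toMulEquiv
    let f : alternatingGroup (Fin 7) →* Equiv.Perm (Fin 8) :=
      (Equiv.Perm.viaEmbeddingHom Fin.castSuccEmb).comp (alternatingGroup (Fin 7)).subtype
    have hf : Function.Injective f :=
      (Equiv.Perm.viaEmbeddingHom_injective _).comp Subtype.coe_injective
    have hev : ∀ x, f x ∈ alternatingGroup (Fin 8) := by
      intro x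
      rcases Subgroup.Normal.eq_bot_or_eq_top (inferInstance : (Equiv.Perm.sign.comp f).ker.Normal) with hk | hk
      · have h1 := Nat.card_le_card_of_injective _ ((MonoidHom.ker_eq_bot_iff _).mp hk)
        rw [nat_card_alternatingGroup, Nat.card_eq_fintype_card (α := ℤˣ)] at h1
        simp [Fintype.card_fin, Nat.factorial] at h1
      · have hx : x ∈ (Equiv.Perm.sign.comp f).ker := by rw [hk]; exact Subgroup.mem_top x
        exact Equiv.Perm.mem_alternatingGroup.mpr hx
    let e := (e1.trans e2).symm.trans e3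
    let ι : alternatingGroup (Fin 7) →* GL (Fin 4) F :=
      e.toMonoidHom.comp (f.codRestrict _ hev)
    have hι : Function.Injective ι :=
      e.injective.comp (fun a b h => hf (congrArg Subtype.val h))
    exact ⟨ι.range, ⟨(MonoidHom.ofInjective hι).symm⟩⟩
  · rintro H ⟨eH⟩ v w v' w' hv hw hvw hv' hw' hvw'
    haveI : IsSimpleGroup H := eH.isSimpleGroup
    have hcard : Nat.card H = 2520 := by
      rw [Nat.card_congr eH.toEquiv, nat_card_alternatingGroup, Nat.card_fin]
      norm_num [Nat.factorial]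
    letI : MulAction H {x : Fin 4 → F // x ≠ 0} :=
      { smul := fun g x => ⟨((g : GL (Fin 4) F) : Matrix (Fin 4) (Fin 4) F) *ᵥ x.1, fun h => x.2 (by
          have h' := congrArg (((g : GL (Fin 4) F)⁻¹ : GL (Fin 4) F) : Matrix (Fin 4) (Fin 4) F).mulVec h
          rwa [Matrix.mulVec_mulVec, ← Units.val_mul, inv_mul_cancel, Units.val_one, Matrix.one_mulVec,
            Matrix.mulVec_zero] at h')⟩
        one_smul := fun x => Subtype.ext (by
          show ((1 : GL (Fin 4) F) : Matrix (Fin 4) (Fin 4) F) *ᵥ x.1 = x.1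
          simp)
        mul_smul := fun g h x => Subtype.ext (by
          show (((g : GL (Fin 4) F) * (h : GL (Fin 4) F) : GL (Fin 4) F) : Matrix (Fin 4) (Fin 4) F) *ᵥ x.1 = _
          rw [Units.val_mul, ← Matrix.mulVec_mulVec]
          rfl) }
    have hVc : Nat.card (Fin 4 → F) = 16 := by
      rw [Nat.card_fun, Nat.card_eq_fintype_card (α := F), hF, Nat.card_fin]; norm_num
    have hΩ : Nat.card {x : Fin 4 → F // x ≠ 0} = 15 := by
      rw [Nat.card_eq_fintype_card, Fintype.card_subtype_compl, Fintype.card_subtype_eq,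
        ← Nat.card_eq_fintype_card, hVc]
    have hfaith : ∀ g : H, (∀ x : {x : Fin 4 → F // x ≠ 0}, g • x = x) → g = 1 := fun g hg => by
      refine Subtype.ext (Units.ext (Matrix.ext fun i j => ?_))
      have h := congrFun (congrArg Subtype.val (hg ⟨Pi.single j 1, fun h => by
        simpa using congrFun h j⟩)) i
      change (((g : GL (Fin 4) F) : Matrix (Fin 4) (Fin 4) F) *ᵥ Pi.single j 1) i = _ at h
      rw [Matrix.mulVec_single_one] at h
      simp only [Matrix.col_apply] at h
      rw [h]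
      simp [Matrix.one_apply, Pi.single_apply]
    -- fixed vectors form a subgroup of order `2^k`, congruent to `16` modulo the order of the element
    have key : ∀ (r : ℕ) (g : H), r.Prime → orderOf g = r →
        ∃ S : AddSubgroup (Fin 4 → F), (∀ x, x ∈ S ↔ ((g : GL (Fin 4) F) : Matrix (Fin 4) (Fin 4) F) *ᵥ x = x) ∧
          Nat.card S ∣ 16 ∧ Nat.card S ≡ 16 [MOD r] ∧ Nat.card S ≠ 16 := by
      intro r g hr hg
      haveI := Fact.mk hr
      letI : MulAction (Subgroup.zpowers g) (Fin 4 → F) :=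
        { smul := fun k x => ((k.1.1 : GL (Fin 4) F) : Matrix (Fin 4) (Fin 4) F) *ᵥ x
          one_smul := fun x => by
            show ((1 : GL (Fin 4) F) : Matrix (Fin 4) (Fin 4) F) *ᵥ x = x
            simp
          mul_smul := fun a b x => by
            show ((a.1.1 * b.1.1 : GL (Fin 4) F) : Matrix (Fin 4) (Fin 4) F) *ᵥ x = _
            rw [Units.val_mul, ← Matrix.mulVec_mulVec]
            rfl }
      let S : AddSubgroup (Fin 4 → F) :=
        { carrier := {x | ((g : GL (Fin 4) F) : Matrix (Fin 4) (Fin 4) F) *ᵥ x = x}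
          zero_mem' := Matrix.mulVec_zero _
          add_mem' := fun {a b} ha hb => by
            show _ *ᵥ (a + b) = a + b
            rw [Matrix.mulVec_add, ha, hb]
          neg_mem' := fun {a} ha => by
            show _ *ᵥ (-a) = -a
            rw [Matrix.mulVec_neg, ha] }
      have hp : IsPGroup r (Subgroup.zpowers g) :=
        IsPGroup.iff_card.mpr ⟨1, by rw [Nat.card_zpowers, hg, pow_one]⟩
      have hmod := hp.card_modEq_card_fixedPoints (α := Fin 4 → F)
      have hfix : fixedPoints (Subgroup.zpowers g) (Fin 4 → F) = (S : Set (Fin 4 → F)) := by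
        ext x
        refine ⟨fun h => h ⟨g, Subgroup.mem_zpowers g⟩, fun h => ?_⟩
        have hle : Subgroup.zpowers (⟨g, Subgroup.mem_zpowers g⟩ : Subgroup.zpowers g) ≤
            stabilizer (Subgroup.zpowers g) x := Subgroup.zpowers_le.mpr h
        intro k
        refine hle ?_
        obtain ⟨i, hi⟩ := Subgroup.mem_zpowers_iff.mp k.2
        exact Subgroup.mem_zpowers_iff.mpr ⟨i, Subtype.ext (by rw [Subgroup.coe_zpow]; exact hi)⟩
      rw [hfix, hVc] at hmod
      refine ⟨S, fun x => Iff.rfl, hVc ▸ AddSubgroup.card_addSubgroup_dvd_card S, hmod.symm, fun h => ?_⟩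
      have htop : S = ⊤ := AddSubgroup.eq_top_of_card_eq S (by rw [h, hVc])
      have : g = 1 := hfaith g fun x => Subtype.ext (show x.1 ∈ S from htop ▸ AddSubgroup.mem_top _)
      rw [this, orderOf_one] at hg
      exact hr.ne_one hg.symm
    have hd16 : ∀ n : ℕ, n ∣ 16 → n = 1 ∨ n = 2 ∨ n = 4 ∨ n = 8 ∨ n = 16 := by
      intro n hn
      have := Nat.le_of_dvd (by norm_num) hn
      interval_cases n <;> omega
    have h5 : ∀ g : H, orderOf g = 5 → ∀ x : {x : Fin 4 → F // x ≠ 0}, g • x ≠ x := by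
      intro g hg x hx
      obtain ⟨S, hS, hd, hm, hne⟩ := key 5 g (by norm_num) hg
      have h1 : Nat.card S = 1 := by
        unfold Nat.ModEq at hm
        rcases hd16 _ hd with h | h | h | h | h <;> rw [h] at hm hne ⊢ <;> omega
      rw [AddSubgroup.card_eq_one] at h1
      exact x.2 (by simpa [h1] using (hS x.1).mpr (congrArg Subtype.val hx))
    have h7 : ∀ g : H, orderOf g = 7 → ∀ a b : {x : Fin 4 → F // x ≠ 0}, g • a = a → g • b = b → a = b := by
      intro g hg a b ha hb
      obtain ⟨S, hS, hd, hm, hne⟩ := key 7 g (by norm_num) hg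
      have h1 : Nat.card S = 2 := by
        unfold Nat.ModEq at hm
        rcases hd16 _ hd with h | h | h | h | h <;> rw [h] at hm hne ⊢ <;> omega
      obtain ⟨y, -, hy⟩ := (Nat.card_eq_two_iff' (0 : S)).mp h1
      have e1 := hy ⟨a.1, (hS _).mpr (congrArg Subtype.val ha)⟩ (fun e => a.2 (congrArg Subtype.val e))
      have e2 := hy ⟨b.1, (hS _).mpr (congrArg Subtype.val hb)⟩ (fun e => b.2 (congrArg Subtype.val e))
      have e12 := congrArg (fun z : S => (z : Fin 4 → F)) (e1.trans e2.symm)
      exact Subtype.ext e12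
    obtain ⟨g, hg1, hg2⟩ := two_transitive_fifteen hcard hΩ hfaith h5 h7 ⟨v, hv⟩ ⟨w, hw⟩ ⟨v', hv'⟩ ⟨w', hw'⟩
      (fun e => hvw (congrArg Subtype.val e)) (fun e => hvw' (congrArg Subtype.val e))
    exact ⟨g, g.2, congrArg Subtype.val hg1, congrArg Subtype.val hg2⟩

end Cfsg.Lib.SolvStruct.AltEight
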